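import Cfsg.Agent.Lib.MaxSub.Extra.Quad.SUEight.Unitary
import Cfsg.Agent.Lib.MaxSub.Extra.Quad.Fusion
import Cfsg.Agent.Lib.MaxSub.SUFour.Klein.Main
import Cfsg.Agent.Lib.MaxSub.WreathUnitary.Main
import Cfsg.Agent.Lib.PauliFour.Group

/-!
The normaliser of a group `4 ∘ 2^(1+6)` is maximal in `SU₈(p)` for primes `p ≡ 3` modulo 4.
-/

set_option autoImplicit false
set_option linter.unusedSectionVars false
set_option linter.style.haveILetI false
set_option maxHeartbeats 800000

namespace CfsgLib.MaxSub.QuadTwo.SUEight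

open Matrix Subgroup Module Cfsg Cfsg.Geo CfsgLib.UnitaryTransvection CfsgLib.PauliFour CfsgLib.MaxSub.Extra Blocks

variable {F : Type*} [Field F] [Fintype F] {q : ℕ}

local notation "M4" => Matrix (Fin 4) (Fin 4) F
local notation "M8" => Matrix (Fin 8) (Fin 8) F
local notation "GL4" => GL (Fin 4) F
local notation "GL8" => GL (Fin 8) F
local notation "G4" => Cfsg.GU 4 F q ⊓ specialLinear (Fin 4) F
local notation "G8" => Cfsg.GU 8 F q ⊓ specialLinear (Fin 8) F

/-- A proper overgroup of the normaliser. -/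
structure Over (q : ℕ) (R H : Subgroup (GL (Fin 8) F)) (u : Fˣ) : Prop where
  hF : Fintype.card F = q ^ 2
  q3 : 3 ≤ q
  base : ∀ E : Subgroup (GL (Fin 4) F), PauliFour.Sys E → Nat.card E = 64 → Nat.card (Subgroup.center E) = 4 →
    E ≤ Cfsg.GU 4 F q → IsMaximalIn (Cfsg.GU 4 F q ⊓ specialLinear (Fin 4) F)
      (subgroupNormalizer E ⊓ (Cfsg.GU 4 F q ⊓ specialLinear (Fin 4) F))
  norm_u : (sc u : GL (Fin 4) F) ∈ Cfsg.GU 4 F q
  sym : Sym R u
  le : R ≤ Cfsg.GU 8 F q
  card : Nat.card R = 256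
  low : normalizer (R : Set (GL (Fin 8) F)) ⊓ (Cfsg.GU 8 F q ⊓ specialLinear (Fin 8) F) ≤ H
  high : H ≤ Cfsg.GU 8 F q ⊓ specialLinear (Fin 8) F
  ne : H ≠ Cfsg.GU 8 F q ⊓ specialLinear (Fin 8) F

theorem conj_mem_G {n : ℕ} {g x : GL (Fin n) F} (hg : g ∈ Cfsg.GU n F q)
    (hx : x ∈ Cfsg.GU n F q ⊓ specialLinear (Fin n) F) :
    g * x * g⁻¹ ∈ Cfsg.GU n F q ⊓ specialLinear (Fin n) F := by
  refine ⟨(Cfsg.GU n F q).mul_mem ((Cfsg.GU n F q).mul_mem hg hx.1) ((Cfsg.GU n F q).inv_mem hg), MonoidHom.mem_ker.2 ?_⟩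
  rw [map_mul, map_mul, MonoidHom.mem_ker.1 hx.2, mul_one, map_inv, mul_inv_cancel]

theorem conj_mem_G' {n : ℕ} {g x : GL (Fin n) F} (hg : g ∈ Cfsg.GU n F q)
    (hx : x ∈ Cfsg.GU n F q ⊓ specialLinear (Fin n) F) :
    g⁻¹ * x * g ∈ Cfsg.GU n F q ⊓ specialLinear (Fin n) F := by
  have := conj_mem_G (inv_mem hg) hx
  rwa [inv_inv] at this

theorem mem_cj_norm {g x : GL8} {R : Subgroup GL8} :
    x ∈ normalizer (cj g R : Set GL8) ↔ g⁻¹ * x * g ∈ normalizer (R : Set GL8) := by
  rw [Subgroup.mem_normalizer_iff, Subgroup.mem_normalizer_iff]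
  constructor
  · intro h y
    have := h (g * y * g⁻¹)
    rw [mem_cj, mem_cj, show g⁻¹ * (g * y * g⁻¹) * g = y by group] at this
    rw [this]
    exact iff_of_eq (congrArg (· ∈ R) (by group))
  · intro h y
    rw [mem_cj, mem_cj, h (g⁻¹ * y * g)]
    exact iff_of_eq (congrArg (· ∈ R) (by group))

variable {R H : Subgroup (GL (Fin 8) F)} {u : Fˣ}

theorem Over.conj (O : Over q R H u) {g : GL8} (hg : g ∈ Cfsg.GU 8 F q) : Over q (cj g R) (cj g H) u where
  hF := O.hF
  q3 := O.q3
  base := O.base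
  norm_u := O.norm_u
  sym := O.sym.conj g
  le x hx := by
    have := mul_mem (mul_mem hg (O.le (mem_cj.1 hx))) (inv_mem hg)
    rwa [show g * (g⁻¹ * x * g) * g⁻¹ = x by group] at this
  card := by
    rw [← O.card]
    exact (Nat.card_congr (R.equivMapOfInjective _ (MulAut.conj g).injective).toEquiv).symm
  low x hx := mem_cj.2 (O.low (Subgroup.mem_inf.2 ⟨mem_cj_norm.1 hx.1, conj_mem_G' hg hx.2⟩))
  high x hx := by
    have := conj_mem_G hg (O.high (mem_cj.1 hx))
    rwa [show g * (g⁻¹ * x * g) * g⁻¹ = x by group] at this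
  ne e := O.ne (le_antisymm O.high fun x hx => by
    have h1 : g * x * g⁻¹ ∈ cj g H := e.symm ▸ conj_mem_G hg hx
    rwa [mem_cj, show g⁻¹ * (g * x * g⁻¹) * g = x by group] at h1)

theorem Over.std (O : Over q R H u) (hZ : Z0 ∈ R) (hs : swp ∈ R) : Std R u := ⟨O.sym, O.card, hZ, hs⟩

/-- Transport of a non-central involution to the first standard one. -/
theorem Over.transport (O : Over q R H u) {z : GL8} (hz : IQ R z) :
    ∃ g ∈ Cfsg.GU 8 F q, g * z * g⁻¹ = Z0 ∧ Std (cj g R) u := by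
  obtain ⟨w, hw, hwz⟩ := O.sym.anti hz.1 hz.2.2
  obtain ⟨c, hc, hi⟩ := O.sym.scale hw (O.sym.not_scal_of_anti hwz.symm)
  obtain ⟨g, hg, h1, h2⟩ := exists_std O.hF O.sym.two (O.le hz.1) (O.le hi.1) hz.2.1 hi.2.1
    (hwz.symm.sc_mul c).symm
  exact ⟨g, hg, h1, (O.conj hg).std (mem_cj.2 (by rw [← h1]; simpa [mul_assoc] using hz.1))
    (mem_cj.2 (by rw [← h2]; simpa [mul_assoc] using hi.1))⟩

theorem Over.tau_G (O : Over q R H u) {z : GL8} (hz : IQ R z) : tau u z ∈ G8 := by
  obtain ⟨g, hg, hgz, S⟩ := O.transport hz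
  have e := O.sym.tau_conj hz.2.1 g
  rw [hgz, S.tau_Z0] at e
  have h1 : emb ((1 : GL4), sc u) ∈ G8 := (emb_mem_G O.hF).2 ⟨one_mem _, O.norm_u, by
    rw [Units.val_one, Matrix.det_one, one_mul, coe_sc, Matrix.det_smul, Matrix.det_one, mul_one, Fintype.card_fin]
    linear_combination ((u : F) * u - 1) * S.sym.iu⟩
  have := conj_mem_G' hg h1
  rwa [← e, show g⁻¹ * (g * tau u z * g⁻¹) * g = tau u z by group] at this

theorem Over.tau_H (O : Over q R H u) {z : GL8} (hz : IQ R z) : tau u z ∈ H :=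
  O.low ⟨O.sym.tau_norm hz, O.tau_G hz⟩

theorem Over.side_G (O : Over q R H u) (S : Std R u) : side R ≤ G4 := by
  have hU : side R ≤ Cfsg.GU 4 F q := fun e he => ((emb_mem_iff O.hF).1 (O.le (mem_side.1 he))).1
  obtain ⟨T, x, -, hx, hcl⟩ := SUFour.Klein.exists_coords (hF := O.hF) S.sys S.side_center hU S.sym.iu
  refine hcl.trans ((Subgroup.closure_le _).2 ?_)
  rintro _ ⟨t, rfl⟩
  refine mem_G_iff.2 ⟨hU (hx t).1, ?_⟩
  have e := congrArg Matrix.det (hx t).2
  rw [Matrix.det_mul, Matrix.det_mul, SUFour.Klein.std_det S.sym.iu, mul_one] at e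
  exact mul_right_cancel₀ ((Matrix.isUnit_iff_isUnit_det _).1 T.isUnit).ne_zero (e.trans (one_mul _).symm)

theorem exists_pair (S : Std R u) : ∃ e r, e ∈ side R ∧ r ∈ side R ∧ e * e = 1 ∧ Anti r e ∧ IQ R (emb (e, e)) ∧
    e ≠ 1 ∧ e ≠ -1 := by
  obtain ⟨x, hx, hxz, hxs, -, r, hr, hrz, hrs, hra⟩ := S.sym.exists_out S.hZ S.hs (one_mem R) S.hZ S.hs
  obtain ⟨a, b, rfl⟩ := comm_Z0 S.two hxz
  obtain ⟨c, d, rfl⟩ := comm_Z0 S.two hrz
  have e1 := hxs.eq
  rw [swp_emb, mul_left_inj, emb_inj] at e1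
  obtain rfl := e1.1
  have e2 := hrs.eq
  rw [swp_emb, mul_left_inj, emb_inj] at e2
  obtain rfl := e2.1
  have hca : Anti c a := by
    have h : emb (c, c) * emb (a, a) = -(emb (a, a) * emb (c, c)) := hra
    rw [emb_mul, emb_mul, ← emb_neg, emb_inj] at h
    exact h.1
  refine ⟨a, c, mem_side.2 hx.1, mem_side.2 hr, ?_, hca, hx, fun e => ?_, fun e => ?_⟩
  · have := hx.2.1
    rw [emb_mul, ← emb_one, emb_inj] at this
    exact this.1
  · exact hx.2.2 (by rw [e, emb_one]; exact scal_one)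
  · exact hx.2.2 (by rw [e, emb_neg, emb_one]; exact scal_one.neg)

/-- An element of the overgroup carrying `Z0` to another involution, up to sign. -/
theorem Over.move (O : Over q R H u) {z z' r : GL8} (hz : IQ R z) (hz' : IQ R z') (hr : r ∈ R) (h1 : Anti r z)
    (h2 : Anti r z') (hc : Commute z z') : ∃ n ∈ H, PM (n⁻¹ * z' * n) z := by
  have X := O.sym
  obtain ⟨c, -, hi⟩ := X.scale hr (X.not_scal_of_anti h1.symm)
  have a1 : Anti (sc c * r) z := (h1.symm.sc_mul c).symm
  have a2 : Anti (sc c * r) z' := (h2.symm.sc_mul c).symm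
  set r₁ := sc c * r with hr₁
  -- the image of `z` under the first root
  set a := tau u r₁ * z * (tau u r₁)⁻¹ with ha
  have haR : a ∈ R := (Subgroup.mem_normalizer_iff.1 (X.tau_norm hi) z).1 hz.1
  have haa : a * a = 1 := by
    rw [ha, show tau u r₁ * z * (tau u r₁)⁻¹ * (tau u r₁ * z * (tau u r₁)⁻¹) =
      tau u r₁ * (z * z) * (tau u r₁)⁻¹ by group, hz.2.1, mul_one, mul_inv_cancel]
  have hae : a = sc (-u) * (r₁ * z) := X.tau_anti hi.2.1 a1.symm
  have hza : Anti z' a := by
    rw [hae]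
    refine Anti.sc_mul _ ?_
    exact a2.symm.mul_comm' hc.symm
  have hs : Anti (z' * a) a := by
    have h := (Anti.comm_mul' (Commute.refl a) hza.symm)
    show z' * a * a = -(a * (z' * a))
    rw [← mul_assoc a, show a * z' = -(z' * a) from hza.symm, neg_mul, neg_neg]
  obtain ⟨d, -, hi'⟩ := X.scale (mul_mem hz'.1 haR) (X.not_scal_of_anti hs.symm)
  have a3 : Anti (sc d * (z' * a)) a := (hs.symm.sc_mul d).symm
  refine ⟨tau u (sc d * (z' * a)) * tau u r₁, mul_mem (O.tau_H hi') (O.tau_H hi), ?_⟩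
  set n := tau u (sc d * (z' * a)) * tau u r₁ with hn
  have hnz : n * z * n⁻¹ = sc (-u * d) * z' := by
    rw [hn, show tau u (sc d * (z' * a)) * tau u r₁ * z * (tau u (sc d * (z' * a)) * tau u r₁)⁻¹ =
      tau u (sc d * (z' * a)) * (tau u r₁ * z * (tau u r₁)⁻¹) * (tau u (sc d * (z' * a)))⁻¹ by group, ← ha,
      X.tau_anti hi'.2.1 a3.symm, map_mul, mul_assoc (sc d), mul_assoc z' a a, haa, mul_one, ← mul_assoc]
  have hd2 : (-u * d) * (-u * d) = 1 := by
    refine sc_injective (ι := Fin 8) ?_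
    rw [map_mul, map_one]
    calc sc (-u * d) * sc (-u * d) = sc (-u * d) * z' * (sc (-u * d) * z') := by
          rw [mul_assoc (sc (-u * d)) z', ← mul_assoc z' (sc (-u * d)) z', ← (commute_sc (-u * d) z').eq,
            mul_assoc (sc (-u * d)) z' z', hz'.2.1, mul_one]
      _ = 1 := by
          rw [← hnz, show n * z * n⁻¹ * (n * z * n⁻¹) = n * (z * z) * n⁻¹ by group, hz.2.1, mul_one, mul_inv_cancel]
  have hsc : PM (sc (-u * d) : GL8) 1 := by
    rcases mul_self_eq_one_iff.1 (congrArg Units.val hd2) with e | e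
    · exact Or.inl (by rw [show -u * d = 1 from Units.ext e, map_one])
    · exact Or.inr (by rw [show -u * d = -1 from Units.ext (e.trans (by simp)), sc_neg, map_one])
  have key : n⁻¹ * (sc (-u * d) * z') * n = z := by rw [← hnz]; group
  rcases hsc with e | e <;> rw [e] at key
  · left; rw [one_mul] at key; exact key
  · right
    rw [neg_one_mul, mul_neg, neg_mul] at key
    exact (neg_eq_iff_eq_neg.1 key)

theorem tmat_unit (hF : Fintype.card F = q ^ 2) {v : Fin 4 → F} (hv : Cfsg.hermForm 4 F q v v = 1) {c : F}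
    (hc : c * frob hF c = 1) : ∃ a : GL4, a ∈ Cfsg.GU 4 F q ∧ (a : M4) = Cfsg.unitaryTransvection 4 q v (c - 1) ∧
      (a : M4).det = c := by
  have hg : Good hF v (c - 1) := by
    rw [Good, hv, map_sub, map_one]; linear_combination hc
  have hiso := fun u w => tmat_isometry (hF := hF) hg u w
  refine ⟨(isometry_of_matrix hF hiso).unit, fun u w => ?_, (isometry_of_matrix hF hiso).unit_spec, ?_⟩
  · show Cfsg.hermForm 4 F q _ _ = _
    simp only [Units.coeHom_apply]
    rw [(isometry_of_matrix hF hiso).unit_spec]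
    exact hiso u w
  · rw [(isometry_of_matrix hF hiso).unit_spec, det_tmat, hv]; ring

/-- The full group of one block is contained in no proper overgroup. -/
theorem Over.no_blocks (O : Over q R H u) (S : Std R u) (hblk : ∀ a ∈ G4, emb (a, (1 : GL4)) ∈ H) : False := by
  classical
  have hF := O.hF
  have h2 := S.two
  have hsH : swp ∈ H := O.low ⟨le_normalizer S.hs, swp_mem_G hF⟩
  have hall : ∀ a ∈ G4, ∀ b ∈ G4, emb (a, b) ∈ H := fun a ha b hb => by
    have h1 := mul_mem (hblk a ha) (mul_mem (mul_mem hsH (hblk b hb)) (inv_mem hsH))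
    rwa [swp_emb, mul_inv_cancel_right, emb_mul, mul_one, one_mul] at h1
  obtain ⟨e, r, he, hr, hee, hra, hiz, he1, he2⟩ := exists_pair S
  obtain ⟨n, hnH, hn⟩ : ∃ n ∈ H, PM (n⁻¹ * emb (e, e) * n) (Z0 : GL8) := by
    refine O.move S.iq_Z0 hiz (mul_mem (mem_side.1 hr) S.hs)
      ((Anti.comm_mul' (emb_comm_Z0 r r).symm swp_Z0.symm).symm) ?_ (emb_comm_Z0 e e).symm
    refine (Anti.mul_comm' ?_ (swp_emb e e).symm).symm
    show emb (e, e) * emb (r, r) = -(emb (r, r) * emb (e, e))
    rw [emb_mul, emb_mul, ← emb_neg, show e * r = -(r * e) from hra.symm]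
  have hnG := O.high hnH
  -- prescribed determinant
  have hy : ∀ c : F, c * frob hF c = 1 → ∃ a b : GL4, emb (a, b) ∈ H ∧ (a : M4).det = c := by
    intro c hc
    have hc0 : c ≠ 0 := fun h => by rw [h, zero_mul] at hc; exact zero_ne_one hc
    have hc' : c⁻¹ * frob hF c⁻¹ = 1 := by rw [map_inv₀, ← mul_inv, hc, inv_one]
    have heU : e ∈ Cfsg.GU 4 F q := (O.side_G S he).1
    obtain ⟨v, hev, hv⟩ := exists_unit_fixed hF h2 heU hee he2
    obtain ⟨a, haU, haM, had⟩ := tmat_unit hF hv hc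
    obtain ⟨b, hbU, hbM, hbd⟩ := tmat_unit hF hv hc'
    have hyG : emb (a, b) ∈ G8 := (emb_mem_G hF).2 ⟨haU, hbU, by rw [had, hbd, mul_inv_cancel₀ hc0]⟩
    refine ⟨a, b, ?_, had⟩
    have hfix : ∀ (w : GL4) (k : F), (w : M4) = Cfsg.unitaryTransvection 4 q v (k - 1) →
        Commute w e ∧ (w : M4) * (1 + ((-e : GL4) : M4)) = 1 + ((-e : GL4) : M4) := fun w k hw => by
      have hh : ∀ x, Cfsg.hermForm 4 F q (e.1 *ᵥ x) v = Cfsg.hermForm 4 F q x v := fun x => by
        conv_lhs => rw [← hev]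
        exact heU x v
      refine ⟨Units.ext (Matrix.ext_of_mulVec_single fun j => ?_), Matrix.ext_of_mulVec_single fun j => ?_⟩
      · rw [Units.val_mul, Units.val_mul, ← Matrix.mulVec_mulVec, ← Matrix.mulVec_mulVec, hw, tmat_mulVec,
          tmat_mulVec, hh, Matrix.mulVec_add, Matrix.mulVec_smul, hev]
      · rw [← Matrix.mulVec_mulVec, hw, tmat_mulVec, Units.val_neg, Matrix.add_mulVec, Matrix.one_mulVec,
          Matrix.neg_mulVec, h_add_left, show -(e.1 *ᵥ Pi.single j 1) = (-1 : F) • (e.1 *ᵥ Pi.single j 1) by simp,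
          h_smul_left, hh]
        simp
    obtain ⟨hae, ha1⟩ := hfix a c haM
    obtain ⟨hbe, hb1⟩ := hfix b c⁻¹ hbM
    have hym : (emb (a, b)).1 * (1 + ((-emb (e, e) : GL8) : M8)) = 1 + ((-emb (e, e) : GL8) : M8) := by
      rw [← emb_neg, emb_val, emb_val, ← big_one, big_add, big_mul]
      simp only [add_zero, Matrix.mul_zero, Matrix.zero_mul, zero_add, ha1, hb1]
    have hy' := conj_mem_G' hnG.1 hyG
    have hcz : Commute (n⁻¹ * emb (a, b) * n) (n⁻¹ * emb (e, e) * n) := by
      show n⁻¹ * emb (a, b) * n * (n⁻¹ * emb (e, e) * n) = n⁻¹ * emb (e, e) * n * (n⁻¹ * emb (a, b) * n)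
      rw [show n⁻¹ * emb (a, b) * n * (n⁻¹ * emb (e, e) * n) = n⁻¹ * (emb (a, b) * emb (e, e)) * n by group,
        emb_mul, hae.eq, hbe.eq, ← emb_mul]
      group
    have hym' : (n⁻¹ * emb (a, b) * n).1 * (1 + ((-(n⁻¹ * emb (e, e) * n) : GL8) : M8)) =
        1 + ((-(n⁻¹ * emb (e, e) * n) : GL8) : M8) := by
      have hP : 1 + ((-(n⁻¹ * emb (e, e) * n) : GL8) : M8) =
          (n⁻¹ : GL8).1 * (1 + ((-emb (e, e) : GL8) : M8)) * n.1 := by
        simp only [Units.val_neg, Units.val_mul, mul_add, add_mul, mul_one, mul_neg, neg_mul, Units.inv_mul]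
      rw [hP, Units.val_mul, Units.val_mul]
      simp only [mul_assoc, Units.mul_inv_cancel_left]
      rw [← mul_assoc (emb (a, b)).1, hym]
    have hmem : n⁻¹ * emb (a, b) * n ∈ H := by
      rcases hn with e' | e' <;> rw [e'] at hcz hym'
      · obtain ⟨α, β, hαβ⟩ := comm_Z0 h2 hcz
        rw [hαβ] at hy' ⊢
        rw [hαβ, minus_Z0, emb_val, big_mul, big_inj] at hym'
        have hβ : β = 1 := Units.ext (smul_right_injective M4 h2 (by simpa [Matrix.mul_smul] using hym'.2.2.2))
        obtain ⟨hα, -, hd⟩ := (emb_mem_G hF).1 hy'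
        rw [hβ, Units.val_one, Matrix.det_one, mul_one] at hd
        exact hall α (mem_G_iff.2 ⟨hα, hd⟩) β (hβ ▸ one_mem _)
      · obtain ⟨α, β, hαβ⟩ := comm_Z0 h2 (by simpa using hcz.neg_right)
        rw [hαβ] at hy' ⊢
        rw [hαβ, neg_neg, plus_Z0, emb_val, big_mul, big_inj] at hym'
        have hα : α = 1 := Units.ext (smul_right_injective M4 h2 (by simpa [Matrix.mul_smul] using hym'.1))
        obtain ⟨-, hβ, hd⟩ := (emb_mem_G hF).1 hy'
        rw [hα, Units.val_one, Matrix.det_one, one_mul] at hd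
        exact hall α (hα ▸ one_mem _) β (mem_G_iff.2 ⟨hβ, hd⟩)
    have h3 := mul_mem (mul_mem hnH hmem) (inv_mem hnH)
    rwa [show n * (n⁻¹ * emb (a, b) * n) * n⁻¹ = emb (a, b) by group] at h3
  -- the whole stabiliser of the two eigenspaces
  have key : ∀ k : GL8, k ∈ G8 → Commute k Z0 → k ∈ H := fun k hk hkz => by
    obtain ⟨a, b, rfl⟩ := comm_Z0 h2 hkz
    obtain ⟨haU, hbU, hd⟩ := (emb_mem_G hF).1 hk
    obtain ⟨a', b', hab', ha'⟩ := hy a.1.det (by
      rw [frob_apply]
      have := congrArg Units.val (UnitaryBasic.det_pow hF haU)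
      rw [Units.val_pow_eq_pow_val, pow_succ', Units.val_one] at this
      exact this)
    obtain ⟨ha'U, hb'U, hd'⟩ := (emb_mem_G hF).1 (O.high hab')
    have hdb : (b' : M4).det = b.1.det := by
      refine mul_left_cancel₀ ((Matrix.isUnit_iff_isUnit_det _).1 a.isUnit).ne_zero ?_
      rw [hd, ← ha', hd']
    have inv_det : ∀ {x y : GL4}, x.1.det = y.1.det → (x * y⁻¹ : GL4).1.det = 1 := fun {x y} h => by
      have := congrArg Matrix.det (y.mul_inv)
      rw [Matrix.det_mul, Matrix.det_one] at this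
      rw [Units.val_mul, Matrix.det_mul, h, this]
    have h1 := mul_mem (hall (a * a'⁻¹) (mem_G_iff.2 ⟨mul_mem haU (inv_mem ha'U), inv_det ha'.symm⟩) (b * b'⁻¹)
      (mem_G_iff.2 ⟨mul_mem hbU (inv_mem hb'U), inv_det hdb.symm⟩)) hab'
    rwa [emb_mul, inv_mul_cancel_right, inv_mul_cancel_right] at h1
  let W : Submodule F (Fin 8 → F) :=
    { carrier := {x | bot x = 0}
      zero_mem' := rfl
      add_mem' := fun {x y} hx hy => funext fun i => by
        show x (e8.symm (Sum.inr i)) + y (e8.symm (Sum.inr i)) = 0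
        rw [show x (e8.symm (Sum.inr i)) = 0 from congrFun hx i, show y (e8.symm (Sum.inr i)) = 0 from congrFun hy i, add_zero]
      smul_mem' := fun c x hx => funext fun i => by
        show c * x (e8.symm (Sum.inr i)) = 0
        rw [show x (e8.symm (Sum.inr i)) = 0 from congrFun hx i, mul_zero] }
  let W' : Submodule F (Fin 8 → F) :=
    { carrier := {x | top x = 0}
      zero_mem' := rfl
      add_mem' := fun {x y} hx hy => funext fun i => by
        show x (e8.symm (Sum.inl i)) + y (e8.symm (Sum.inl i)) = 0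
        rw [show x (e8.symm (Sum.inl i)) = 0 from congrFun hx i, show y (e8.symm (Sum.inl i)) = 0 from congrFun hy i, add_zero]
      smul_mem' := fun c x hx => funext fun i => by
        show c * x (e8.symm (Sum.inl i)) = 0
        rw [show x (e8.symm (Sum.inl i)) = 0 from congrFun hx i, mul_zero] }
  have hsplit : ∀ x : Fin 8 → F, glue (top x) (bot x) = x := fun x => funext fun j => by
    obtain ⟨s, rfl⟩ := e8.symm.surjective j
    rcases s with i | i <;> simp [glue, top, bot]
  have hsum : ∀ x : Fin 8 → F, glue (top x) 0 + glue 0 (bot x) = x := fun x => by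
    conv_rhs => rw [← hsplit x]
    funext j
    obtain ⟨s, rfl⟩ := e8.symm.surjective j
    rcases s with i | i <;> simp [glue]
  let eW : W ≃ₗ[F] (Fin 4 → F) :=
    { toFun := fun x => top x.1
      invFun := fun a => ⟨glue a 0, bot_glue a 0⟩
      map_add' := fun x y => rfl
      map_smul' := fun c x => rfl
      left_inv := fun x => Subtype.ext (by
        show glue (top x.1) 0 = x.1
        conv_rhs => rw [← hsplit x.1, show bot x.1 = 0 from x.2])
      right_inv := fun a => top_glue a 0 }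
  let eW' : W' ≃ₗ[F] (Fin 4 → F) :=
    { toFun := fun x => bot x.1
      invFun := fun a => ⟨glue 0 a, top_glue 0 a⟩
      map_add' := fun x y => rfl
      map_smul' := fun c x => rfl
      left_inv := fun x => Subtype.ext (by
        show glue 0 (bot x.1) = x.1
        conv_rhs => rw [← hsplit x.1, show top x.1 = 0 from x.2])
      right_inv := fun a => bot_glue 0 a }
  have hnd4 : ∀ a : Fin 4 → F, a ≠ 0 → ∃ y, Cfsg.hermForm 4 F q y a ≠ 0 := fun a ha => by
    obtain ⟨σ, B, Hh, hB⟩ := HermIso.exists_herm hF 4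
    by_contra! hh
    exact ha (Hh.nd a fun y => by rw [hB]; exact hh y)
  have hsymm : ∀ x y : Fin 8 → F, Cfsg.hermForm 8 F q x y ≠ 0 → Cfsg.hermForm 8 F q y x ≠ 0 := fun x y h e' =>
    h (by rw [← h_swap hF y x, e', map_zero])
  let D : Fin 2 → Submodule F (Fin 8 → F) := ![W, W']
  have hz0 : ∀ {m : ℕ} (a : Fin m → F), Cfsg.hermForm m F q 0 a = 0 := fun a =>
    Finset.sum_eq_zero fun i _ => by simp
  have hD : Cfsg.Geo.IsNondegenerateMDecomposition (Cfsg.hermForm 8 F q) 4 D := by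
    refine ⟨⟨le_rfl, by norm_num, fun i => ?_, ?_, ?_⟩, fun i => ?_, fun i j hij => ?_⟩
    · fin_cases i
      · exact eW.finrank_eq.trans (by simp)
      · exact eW'.finrank_eq.trans (by simp)
    · rw [iSupIndep_pair (i := (0 : Fin 2)) (j := 1) (by decide) (fun i => by fin_cases i <;> simp)]
      refine disjoint_iff.2 ((Submodule.eq_bot_iff _).2 fun x hx => ?_)
      rw [← hsplit x, show top x = 0 from hx.2, show bot x = 0 from hx.1]
      funext j; rcases hj : e8 j with i | i <;> simp [glue, hj]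
    · rw [eq_top_iff]
      intro x _
      rw [← hsum x]
      exact add_mem (Submodule.mem_iSup_of_mem (0 : Fin 2) (bot_glue (top x) 0))
        (Submodule.mem_iSup_of_mem (1 : Fin 2) (top_glue 0 (bot x)))
    · intro x hx hx0
      fin_cases i
      · have hx' : bot x = 0 := hx
        obtain ⟨y, hy⟩ := hnd4 (top x) fun e' => hx0 (by
          rw [← hsum x, e', hx']; funext j; rcases hj : e8 j with i | i <;> simp [glue, hj])
        have h1 : Cfsg.hermForm 8 F q (glue y 0) x ≠ 0 := by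
          rw [form_split, top_glue, bot_glue, hz0, add_zero]; exact hy
        exact ⟨⟨glue y 0, bot_glue y 0, h1⟩, ⟨glue y 0, bot_glue y 0, hsymm _ _ h1⟩⟩
      · have hx' : top x = 0 := hx
        obtain ⟨y, hy⟩ := hnd4 (bot x) fun e' => hx0 (by
          rw [← hsum x, e', hx']; funext j; rcases hj : e8 j with i | i <;> simp [glue, hj])
        have h1 : Cfsg.hermForm 8 F q (glue 0 y) x ≠ 0 := by
          rw [form_split, top_glue, bot_glue, hz0, zero_add]; exact hy
        exact ⟨⟨glue 0 y, top_glue 0 y, h1⟩, ⟨glue 0 y, top_glue 0 y, hsymm _ _ h1⟩⟩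
    · fin_cases i <;> fin_cases j
      · exact absurd rfl hij
      · intro a ha b hb
        rw [form_split, show bot a = 0 from ha, show top b = 0 from hb, h_zero_right hF, hz0, add_zero]
      · intro a ha b hb
        rw [form_split, show top a = 0 from ha, show bot b = 0 from hb, h_zero_right hF, hz0, add_zero]
      · exact absurd rfl hij
  have hzv : ∀ x : Fin 8 → F, (Z0 : GL8).1 *ᵥ x = glue (top x) (-bot x) := fun x => by
    rw [Z0_val, big_mulVec]; simp [Matrix.neg_mulVec]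
  have hstab : ∀ g ∈ Cfsg.Geo.decompositionStabilizer D, Commute g Z0 ∨ Anti g Z0 := fun g hg => by
    obtain ⟨σ, hσ⟩ := hg
    have mW : ∀ x ∈ W, (Z0 : GL8).1 *ᵥ x = x := fun x hx => by
      rw [hzv, show bot x = 0 from hx, neg_zero]
      conv_rhs => rw [← hsplit x, show bot x = 0 from hx]
    have mW' : ∀ x ∈ W', (Z0 : GL8).1 *ᵥ x = -x := fun x hx => by
      rw [hzv]
      conv_rhs => rw [← hsplit x]
      rw [show top x = 0 from hx]
      funext j; rcases hj : e8 j with i | i <;> simp [glue, hj]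
    have ext : ∀ {A B : M8}, (∀ a ∈ W, A *ᵥ a = B *ᵥ a) → (∀ b ∈ W', A *ᵥ b = B *ᵥ b) → A = B := fun {A B} h1 h2 =>
      Matrix.toLin'.injective (LinearMap.ext fun v => by
        rw [Matrix.toLin'_apply, Matrix.toLin'_apply, ← hsum v, Matrix.mulVec_add, Matrix.mulVec_add,
          h1 _ (bot_glue (top v) 0), h2 _ (top_glue 0 (bot v))])
    have himg : ∀ i {a}, a ∈ D i → g.1 *ᵥ a ∈ D (σ i) := fun i a ha => hσ i ▸ Submodule.mem_map_of_mem ha
    rcases eq_or_ne (σ 0) 0 with h0 | h0
    · have h1 : σ 1 = 1 := by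
        have : σ 1 ≠ 0 := fun e => by simpa using σ.injective (e.trans h0.symm)
        omega
      refine Or.inl (Units.ext (ext (fun a ha => ?_) fun b hb => ?_))
      · have := himg 0 ha
        rw [h0] at this
        rw [Units.val_mul, Units.val_mul, ← Matrix.mulVec_mulVec, ← Matrix.mulVec_mulVec, mW a ha, mW _ this]
      · have := himg 1 hb
        rw [h1] at this
        rw [Units.val_mul, Units.val_mul, ← Matrix.mulVec_mulVec, ← Matrix.mulVec_mulVec, mW' b hb, mW' _ this,
          Matrix.mulVec_neg]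
    · have h01 : σ 0 = 1 := by omega
      have h1 : σ 1 = 0 := by
        have : σ 1 ≠ 1 := fun e => by simpa using σ.injective (e.trans h01.symm)
        omega
      refine Or.inr (Units.ext (ext (fun a ha => ?_) fun b hb => ?_))
      · have := himg 0 ha
        rw [h01] at this
        rw [Units.val_mul, Units.val_neg, Units.val_mul, Matrix.neg_mulVec, ← Matrix.mulVec_mulVec,
          ← Matrix.mulVec_mulVec, mW a ha, mW' _ this, neg_neg]
      · have := himg 1 hb
        rw [h1] at this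
        rw [Units.val_mul, Units.val_neg, Units.val_mul, Matrix.neg_mulVec, ← Matrix.mulVec_mulVec,
          ← Matrix.mulVec_mulVec, mW' b hb, mW _ this, Matrix.mulVec_neg]
  have hle : Cfsg.Geo.decompositionStabilizer D ⊓ G8 ≤ H := fun g hg => by
    rcases hstab g hg.1 with e | e
    · exact key g hg.2 e
    · have := mul_mem (key (g * swp) (mul_mem hg.2 (swp_mem_G hF)) (e.symm.mul_anti swp_Z0.symm).symm) hsH
      rwa [mul_assoc, swp_sq, mul_one] at this
  have hmax := CfsgLib.MaxSub.WreathUnitary.wreath_maximal hF (by norm_num : 6 ≤ 8) 4 D hD (by omega) (by omega)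
  rcases hmax.2 H hle O.high with e' | e'
  · obtain hn' := hstab n ((e' ▸ hnH : n ∈ _) : n ∈ Cfsg.Geo.decompositionStabilizer D ⊓ G8).1
    have hpm : PM (emb (e, e)) (Z0 : GL8) := by
      have hcj : PM (n * Z0 * n⁻¹) (Z0 : GL8) := by
        rcases hn' with h | h
        · left; rw [h.eq, mul_inv_cancel_right]
        · right; rw [show n * Z0 = -(Z0 * n) from h, neg_mul, mul_inv_cancel_right]
      rcases hn with h | h
      · rw [show emb (e, e) = n * Z0 * n⁻¹ by rw [← h]; group]; exact hcj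
      · have e3 : emb (e, e) = -(n * Z0 * n⁻¹) := by
          rw [← neg_mul, ← mul_neg, ← h]; group
        rw [e3]
        rcases hcj with h' | h'
        · right; rw [h']
        · left; rw [h', neg_neg]
    rcases hpm with h | h
    · exact he1 (emb_inj.1 h).1
    · rw [Z0, ← emb_neg, neg_neg, emb_inj] at h
      exact he1 h.2
  · exact O.ne e'

theorem tau_neg_mul (h2 : (2 : F) ≠ 0) (hiu : (u : F) * u = -1) {y : GL8} (hy : y * y = 1)
    (X : Sym R u) : tau u (-y) * tau u y = sc u := by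
  refine Units.ext ?_
  have hy' : (y : M8) * y = 1 := by rw [← Units.val_mul, hy, Units.val_one]
  rw [Units.val_mul, X.tau_coe (by rw [neg_mul_neg, hy]), X.tau_coe hy, coe_sc, tauM, tauM, Units.val_neg]
  simp only [smul_neg, add_mul, mul_add, neg_mul, smul_mul_smul_comm, one_mul, mul_one, hy']
  match_scalars <;> field_simp <;> ring

/-- The blocks of an element centralising `Z0` normalise the two-group of their block. -/
theorem Over.blocks (O : Over q R H u) (S : Std R u) {x t : GL4} (h : emb (x, t) ∈ H) :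
    x ∈ normalizer (side R : Set GL4) := by
  classical
  have hF := O.hF
  let X0 : Subgroup GL4 := ((H.comap emb).map (MonoidHom.fst GL4 GL4)) ⊓ G4
  have memX : ∀ {a}, a ∈ X0 ↔ (∃ b, emb (a, b) ∈ H) ∧ a ∈ G4 := fun {a} => by
    simp [X0, Subgroup.mem_map, and_assoc]
  have hN : Cfsg.Geo.subgroupNormalizer (side R) ⊓ G4 ≤ X0 := fun a ha =>
    memX.2 ⟨⟨a, O.low ⟨S.diag_norm ha.1, (emb_mem_G hF).2 ⟨ha.2.1, ha.2.1, by
      rw [(mem_G_iff.1 ha.2).2, mul_one]⟩⟩⟩, ha.2⟩
  have hmax := O.base (side R) S.sys S.side_card S.side_center ((O.side_G S).trans inf_le_left)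
  rcases hmax.2 X0 hN inf_le_right with e | e
  · have hxU := ((emb_mem_G hF).1 (O.high h)).1
    refine S.side_conj (A := X0) (fun a ha => e.ge ⟨le_normalizer ha, O.side_G S ha⟩) (fun n hn => ?_) ?_
    · obtain ⟨⟨b, hb⟩, hnG⟩ := memX.1 hn
      constructor
      · have h1 := mul_mem (mul_mem (inv_mem h) hb) h
        rw [emb_inv, emb_mul, emb_mul] at h1
        exact (e.le (memX.2 ⟨⟨_, h1⟩, conj_mem_G' hxU hnG⟩)).1
      · have h1 := mul_mem (mul_mem h hb) (inv_mem h)
        rw [emb_inv, emb_mul, emb_mul] at h1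
        exact (e.le (memX.2 ⟨⟨_, h1⟩, conj_mem_G hxU hnG⟩)).1
    · intro z r t t' hz hr hzz hrr hra ht ht'
      have hz8 : emb (z, z) * emb (z, z) = 1 := by rw [emb_mul, hzz, emb_one]
      have hr8 : emb (r, r) * emb (r, r) = 1 := by rw [emb_mul, hrr, emb_one]
      have h8 : Anti (emb (r, r)) (emb (z, z)) := by
        show emb (r, r) * emb (z, z) = -(emb (z, z) * emb (r, r))
        rw [emb_mul, emb_mul, ← emb_neg, show r * z = -(z * r) from hra]
      have iz : IQ R (emb (z, z)) := ⟨mem_side.1 hz, hz8, S.sym.not_scal_of_anti h8⟩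
      have ir : IQ R (emb (r, r)) := ⟨mem_side.1 hr, hr8, S.sym.not_scal_of_anti h8.symm⟩
      have htH : emb (t * t', t * t') ∈ H := by
        rw [← emb_mul, ← ht, ← ht']
        exact mul_mem (O.tau_H iz) (O.tau_H ir)
      refine memX.2 ⟨⟨_, htH⟩, mem_G_iff.2 ⟨((emb_mem_G hF).1 (O.high htH)).1, ?_⟩⟩
      -- a braid relation computes the determinant
      have hcy : ∀ {w : GL8}, w * w = 1 → ∀ g : GL8, g * w * g⁻¹ * (g * w * g⁻¹) = 1 := fun {w} hw g => by
        rw [show g * w * g⁻¹ * (g * w * g⁻¹) = g * (w * w) * g⁻¹ by group, hw, mul_one, mul_inv_cancel]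
      have hneg : tau u (emb (z, z)) * emb (r, r) * (tau u (emb (z, z)))⁻¹ =
          -(tau u (emb (r, r)) * emb (z, z) * (tau u (emb (r, r)))⁻¹) := by
        rw [S.sym.tau_anti hz8 h8, S.sym.tau_anti hr8 h8.symm,
          show emb (r, r) * emb (z, z) = -(emb (z, z) * emb (r, r)) from h8, mul_neg, neg_neg]
      have hrel : (tau u (emb (z, z)) * tau u (emb (r, r)) * (tau u (emb (z, z)))⁻¹) *
          (tau u (emb (r, r)) * tau u (emb (z, z)) * (tau u (emb (r, r)))⁻¹) = sc u := by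
        rw [S.sym.tau_conj hr8, S.sym.tau_conj hz8, hneg]
        exact tau_neg_mul S.two S.sym.iu (hcy hz8 _) S.sym
      rw [ht, ht', ← emb_sc] at hrel
      simp only [emb_mul, emb_inv, emb_inj] at hrel
      have hd := congrArg (fun g : GL4 => Matrix.GeneralLinearGroup.det g) hrel.1
      simp only [map_mul, map_inv] at hd
      have hd' : Matrix.GeneralLinearGroup.det t * Matrix.GeneralLinearGroup.det t' = 1 := by
        have hu : Matrix.GeneralLinearGroup.det (sc u : GL4) = 1 := Units.ext (by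
          rw [Matrix.GeneralLinearGroup.val_det_apply, coe_sc, Matrix.det_smul, Matrix.det_one, mul_one,
            Fintype.card_fin, Units.val_one]
          linear_combination ((u : F) * u - 1) * S.sym.iu)
        rw [hu, mul_inv_cancel_comm, mul_inv_cancel_comm] at hd
        rw [mul_comm]; exact hd
      have := congrArg Units.val hd'
      rwa [← map_mul, Matrix.GeneralLinearGroup.val_det_apply] at this
  exfalso
  refine O.no_blocks S fun a ha => ?_
  let K : Subgroup ↥G4 := H.comap ((emb.comp (MonoidHom.inl GL4 GL4)).comp (Subgroup.subtype G4))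
  have hK : K.Normal := ⟨fun k hk g => by
    obtain ⟨⟨b, hb⟩, -⟩ := memX.1 (e.ge g.2 : g.1 ∈ X0)
    show emb (((g * k * g⁻¹ : ↥G4) : GL4), (1 : GL4)) ∈ H
    have := mul_mem (mul_mem hb (show emb (k.1, (1 : GL4)) ∈ H from hk)) (inv_mem hb)
    rwa [emb_inv, emb_mul, emb_mul, mul_one, mul_inv_cancel] at this⟩
  obtain ⟨e₀, r₀, he₀, hr₀, -, hanti, -, -, -⟩ := exists_pair S
  have htop := normal_top hF hK ⟨⟨e₀, O.side_G S he₀⟩, O.low ⟨S.root he₀, (emb_mem_G hF).2
      ⟨(O.side_G S he₀).1, one_mem _, by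
        show e₀.1.det * (1 : GL4).1.det = 1
        rw [(mem_G_iff.1 (O.side_G S he₀)).2, Units.val_one, Matrix.det_one, mul_one]⟩⟩,
    ⟨r₀, O.side_G S hr₀⟩, fun e' => S.ne_neg4 (e₀ * r₀) (by
      have e2 : e₀ * r₀ = r₀ * e₀ := congrArg Subtype.val e'
      conv_rhs => rw [e2, show r₀ * e₀ = -(e₀ * r₀) from hanti, neg_neg])⟩
  exact (htop.ge (Subgroup.mem_top (⟨a, ha⟩ : ↥G4)) : _ ∈ K)

/-- The local hypotheses. -/
theorem Over.loc (O : Over q R H u) : Loc R H u where
  sub r hr := O.low ⟨le_normalizer hr, O.le hr, by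
    by_cases hs : Scal r
    · obtain ⟨c, rfl⟩ := hs
      have h4 : ((sc c : GL8) * sc c) * (sc c * sc c) = 1 := by
        rcases O.sym.sq _ hr with e | e <;> rw [e] <;> simp
      have hc4 : c * c * (c * c) = 1 := sc_injective (ι := Fin 8) (by simpa using h4)
      refine MonoidHom.mem_ker.2 (Units.ext ?_)
      rw [Matrix.GeneralLinearGroup.val_det_apply, coe_sc, Matrix.det_smul, Matrix.det_one, mul_one,
        Fintype.card_fin, Units.val_one]
      have h5 := congrArg Units.val hc4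
      simp only [Units.val_mul, Units.val_one] at h5
      linear_combination ((c : F) * c * (c * c) + 1) * h5
    · obtain ⟨c, hc, hi⟩ := O.sym.scale hr hs
      have h1 := MonoidHom.mem_ker.1 (O.tau_G hi).2
      have h3 : Matrix.GeneralLinearGroup.det (sc c * r) = 1 := by
        rw [← O.sym.tau_sq hi.2.1, map_mul, h1, one_mul]
      have h4 : ((sc c : GL8) * sc c) * (sc c * sc c) = 1 := by
        rcases O.sym.sq _ hc with e | e <;> rw [e] <;> simp
      have hc4 : c * c * (c * c) = 1 := sc_injective (ι := Fin 8) (by simpa using h4)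
      have h6 : Matrix.GeneralLinearGroup.det (sc c : GL8) = 1 := Units.ext (by
        rw [Matrix.GeneralLinearGroup.val_det_apply, coe_sc, Matrix.det_smul, Matrix.det_one, mul_one,
          Fintype.card_fin, Units.val_one]
        have h5 := congrArg Units.val hc4
        simp only [Units.val_mul, Units.val_one] at h5
        linear_combination ((c : F) * c * (c * c) + 1) * h5)
      rw [map_mul, h6, one_mul] at h3
      exact MonoidHom.mem_ker.2 h3⟩
  tau_mem _ hz := O.tau_H hz
  proj z hz k hk kz r hr rz := by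
    obtain ⟨g, hg, hgz, S⟩ := O.transport hz
    have hcomm : ∀ {a : GL8}, Commute a z → Commute (g * a * g⁻¹) Z0 := fun {a} h => by
      rw [← hgz]
      show g * a * g⁻¹ * (g * z * g⁻¹) = g * z * g⁻¹ * (g * a * g⁻¹)
      rw [show g * a * g⁻¹ * (g * z * g⁻¹) = g * (a * z) * g⁻¹ by group, h.eq]
      group
    have hmemH : ∀ {a : GL8}, a ∈ H → g * a * g⁻¹ ∈ cj g H := fun {a} ha =>
      mem_cj.2 (by rwa [show g⁻¹ * (g * a * g⁻¹) * g = a by group])
    obtain ⟨x, t, hxt⟩ := comm_Z0 S.two (hcomm kz)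
    obtain ⟨e, he, hre⟩ := S.cent_cases (r := g * r * g⁻¹)
      (mem_cj.2 (by rwa [show g⁻¹ * (g * r * g⁻¹) * g = r by group])) (hcomm rz)
    have hxN := (O.conj hg).blocks S (x := x) (t := t) (hxt ▸ hmemH hk)
    have he' : x * e * x⁻¹ ∈ side _ := (Subgroup.mem_normalizer_iff.1 hxN e).1 he
    refine ⟨g⁻¹ * emb (x * e * x⁻¹, x * e * x⁻¹) * g, mem_cj.1 (mem_side.1 he'), ?_, ?_⟩
    · show g⁻¹ * emb (x * e * x⁻¹, x * e * x⁻¹) * g * z = z * (g⁻¹ * emb (x * e * x⁻¹, x * e * x⁻¹) * g)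
      rw [show g⁻¹ * emb (x * e * x⁻¹, x * e * x⁻¹) * g * z =
        g⁻¹ * (emb (x * e * x⁻¹, x * e * x⁻¹) * (g * z * g⁻¹)) * g by group, hgz, emb_comm_Z0, ← hgz]
      group
    · have e0 : (g * (k * r * k⁻¹) * g⁻¹).1 * (1 + (Z0 : GL8).1) =
          (emb (x * e * x⁻¹, x * e * x⁻¹)).1 * (1 + (Z0 : GL8).1) := by
        rw [show g * (k * r * k⁻¹) * g⁻¹ = (g * k * g⁻¹) * (g * r * g⁻¹) * (g * k * g⁻¹)⁻¹ by group, hxt, plus_Z0]
        rcases hre with e' | e' <;> rw [e', emb_inv, emb_mul, emb_mul, emb_val, emb_val, big_mul, big_mul] <;> simp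
      have hp : 1 + (z : M8) = (g⁻¹ : GL8).1 * (1 + (Z0 : GL8).1) * g.1 := by
        rw [← hgz]
        simp [Units.val_mul, mul_add, add_mul, mul_assoc]
      have e3 := congrArg (fun M : M8 => (g⁻¹ : GL8).1 * M * g.1) e0
      simp only [hp, Units.val_mul, mul_assoc, Units.inv_mul_cancel_left, Units.mul_inv_cancel_left] at e3 ⊢
      exact e3

/-- The hypotheses of the classification give the working properties. -/
theorem sym_of_hyp (h2 : (2 : F) ≠ 0) {R : Subgroup GL8} (hs : IsSymplecticTypeGroup 2 R)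
    (hi : ActsAbsolutelyIrreducibly (matrixSet R)) (hc : Nat.card R = 256) (hz : Nat.card (Subgroup.center R) = 4) :
    ∃ u : Fˣ, Sym R u := by
  classical
  haveI : Finite R := Nat.finite_of_card_ne_zero (by rw [hc]; norm_num)
  have irr : ∀ M : M8, (∀ s ∈ R, M * (s : M8) = (s : M8) * M) → ∃ c : F, M = c • 1 :=
    fun M hM => hi.2 M fun s hs' => by obtain ⟨g, hg, rfl⟩ := hs'; exact hM g hg
  have h4 : ∀ x : R, x ^ 4 = 1 := fun x => by
    have := Monoid.pow_exponent_eq_one x
    rwa [hs.exponent_eq] at this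
  have hscal : ∀ z : R, z ∈ Subgroup.center R → ∃ c : Fˣ, (z : GL8) = sc c := fun z hz' => by
    obtain ⟨c, hc'⟩ := irr (z : GL8) fun s hs' =>
      (congrArg (fun w : R => ((w : GL8) : M8)) (Subgroup.mem_center_iff.1 hz' ⟨s, hs'⟩)).symm
    obtain ⟨v, -, hv⟩ := eq_sc_of_coe hc'
    exact ⟨v, hv⟩
  have hcomm := commutator_mem_center hs.pGroup h4 hs.cyclic_of_characteristic (Or.inl hz)
  have hsq := PauliFour.squares_central h4 hs.cyclic_of_characteristic (Or.inl hz) hcomm
  have hpow : ∀ x ∈ R, x ^ 4 = 1 := fun x hx => congrArg Subtype.val (h4 ⟨x, hx⟩)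
  have hsq' : ∀ x ∈ R, PM (x * x) 1 := fun x hx => by
    obtain ⟨c, hc'⟩ := hscal _ (hsq ⟨x, hx⟩)
    simp only [pow_two, Subgroup.coe_mul] at hc'
    have e : c * c = 1 := sc_injective (ι := Fin 8) (by
      rw [map_mul, map_one, ← hc', ← hpow x hx]; simp [pow_succ, mul_assoc])
    rcases mul_self_eq_one_iff.1 (congrArg Units.val e) with e' | e'
    · exact Or.inl (by rw [hc', show c = 1 from Units.ext e', map_one])
    · exact Or.inr (by rw [hc', show c = -1 from Units.ext (e'.trans (by simp)), sc_neg, map_one])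
  have hdi : ∀ a ∈ R, ∀ b ∈ R, Commute a b ∨ Anti a b := by
    intro a ha b hb
    obtain ⟨c, hc'⟩ := hscal _ (hcomm ⟨a, ha⟩ ⟨b, hb⟩)
    simp only [Subgroup.coe_mul, InvMemClass.coe_inv] at hc'
    have e : a * b = sc c * (b * a) := by rw [← hc']; group
    have hc2 : c * c = 1 := by
      apply sc_injective (ι := Fin 8)
      have h1 : a * a * b = b * (a * a) := by
        rcases hsq' a ha with e' | e' <;> rw [e'] <;> simp
      have h2' : a * a * b = sc (c * c) * (b * (a * a)) := by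
        calc a * a * b = a * (a * b) := mul_assoc ..
          _ = a * sc c * (b * a) := by rw [e, mul_assoc]
          _ = sc c * (a * b) * a := by rw [← sc_comm]; group
          _ = sc c * (sc c * (b * a)) * a := by rw [e]
          _ = _ := by rw [map_mul]; group
      rw [h1] at h2'
      rw [map_one]
      exact mul_eq_right.1 h2'.symm
    rcases mul_self_eq_one_iff.1 (congrArg Units.val hc2) with h | h
    · left
      show a * b = b * a
      rw [e, show c = 1 from Units.ext h, map_one, one_mul]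
    · right
      show a * b = -(b * a)
      rw [e, show c = -1 from Units.ext (h.trans (by simp)), sc_neg, map_one, neg_one_mul]
  obtain ⟨z, hzz⟩ : ∃ z : Subgroup.center R, ¬ PM ((z : R) : GL8) 1 := by
    by_contra! hh
    let f : Subgroup.center R → Bool := fun z => decide (((z : R) : GL8) = 1)
    have hf : Function.Injective f := fun a b e => by
      simp only [f, decide_eq_decide] at e
      refine Subtype.ext (Subtype.ext ?_)
      rcases hh a with h | h <;> rcases hh b with h' | h'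
      · rw [h, h']
      · rw [h, e.1 h]
      · rw [h', e.2 h']
      · rw [h, h']
    have := Nat.card_le_card_of_injective f hf
    rw [hz, show Nat.card Bool = 2 by simp] at this
    omega
  obtain ⟨v, hv⟩ := hscal _ z.2
  have hvv : (v : F) * v = -1 := by
    rcases hsq' _ (z : R).2 with e | e <;> rw [hv, ← map_mul] at e
    · exfalso
      have h1 : (v : F) * v = 1 := by
        simpa using congrArg Units.val (sc_injective (ι := Fin 8) (e.trans (map_one sc).symm))
      rcases mul_self_eq_one_iff.1 h1 with h | h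
      · exact hzz (Or.inl (by rw [hv, show v = 1 from Units.ext h, map_one]))
      · exact hzz (Or.inr (by rw [hv, show v = -1 from Units.ext (h.trans (by simp)), sc_neg, map_one]))
    · rw [← map_one (sc (F := F) (ι := Fin 8)), ← sc_neg] at e
      simpa using congrArg Units.val (sc_injective (ι := Fin 8) e)
  refine ⟨v, h2, ?_, inferInstance, hvv, hv ▸ (z : R).2, hdi, hsq', irr, hc.ge⟩
  rw [Fintype.card_fin, show ((8 : ℕ) : F) = 2 * 2 * 2 by norm_num]
  exact mul_ne_zero (mul_ne_zero h2 h2) h2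

/-- The normaliser of a group `4 ∘ 2^(1+6)` is maximal in `SU₈(p)`. -/
theorem su8_pauli_maximal (hF : Fintype.card F = q ^ 2) (p : ℕ) (R : Subgroup GL8) (hp : p.Prime) (hqp : q = p)
    (hp4 : p % 4 = 3) (hs : IsSymplecticTypeGroup 2 R) (hi : ActsAbsolutelyIrreducibly (matrixSet R))
    (hR : R ≤ Cfsg.GU 8 F q) (hc : Nat.card R = 256) (hz : Nat.card (Subgroup.center R) = 4) :
    IsMaximalIn G8 (subgroupNormalizer R ⊓ G8) := by
  classical
  subst hqp
  haveI : Fact q.Prime := ⟨hp⟩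
  haveI : CharP F q := by
    obtain ⟨r, hr⟩ := CharP.exists F
    obtain ⟨⟨n, hn⟩, hrp, hcard⟩ := FiniteField.card F r
    have h1 : r ∣ q ^ 2 := hF ▸ hcard ▸ dvd_pow_self r (by simp; omega)
    rwa [(Nat.prime_dvd_prime_iff_eq hrp hp).1 (hrp.dvd_of_dvd_pow h1)] at hr
  have h2 : (2 : F) ≠ 0 := fun e => by
    have : q ∣ 2 := (CharP.cast_eq_zero_iff F q 2).1 (by exact_mod_cast e)
    rw [(Nat.prime_dvd_prime_iff_eq hp Nat.prime_two).1 this] at hp4
    omega
  obtain ⟨u, X⟩ := sym_of_hyp h2 hs hi hc hz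
  have hσi : frob hF (u : F) = -(u : F) := by
    rw [frob_apply]
    obtain ⟨m, hm⟩ : ∃ m, q = 2 * (2 * m + 1) + 1 := ⟨q / 4, by omega⟩
    rw [hm, pow_succ, pow_mul, pow_two, X.iu, Odd.neg_one_pow ⟨m, rfl⟩]
    ring
  have hu : (sc u : GL4) ∈ Cfsg.GU 4 F q := fun v w => by
    show Cfsg.hermForm 4 F q ((sc u : GL4).1 *ᵥ v) ((sc u : GL4).1 *ᵥ w) = Cfsg.hermForm 4 F q v w
    rw [coe_sc, Matrix.smul_mulVec, Matrix.smul_mulVec, Matrix.one_mulVec, Matrix.one_mulVec, h_smul_left,
      h_smul_right hF, hσi]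
    linear_combination (-Cfsg.hermForm 4 F q v w) * X.iu
  haveI : Fintype (⊥ : Subfield F) := Fintype.ofFinite _
  have hk : Fintype.card (⊥ : Subfield F) = q := by
    rw [← Nat.card_eq_fintype_card]; exact Subfield.card_bot F q
  let C : SUFour.Klein.Cx hF (⊥ : Subfield F) := ⟨(⊥ : Subfield F).subtype, (u : F), X.iu, hσi,
    fun a => (frob_apply hF _).trans ((Subfield.mem_bot_iff_pow_eq_self (F := F) (p := q)).1 a.2),
    fun x hx => ⟨⟨x, (Subfield.mem_bot_iff_pow_eq_self (F := F) (p := q)).2 ((frob_apply hF x).symm.trans hx)⟩, rfl⟩, h2⟩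
  have hbase : ∀ E : Subgroup GL4, PauliFour.Sys E → Nat.card E = 64 → Nat.card (Subgroup.center E) = 4 →
      E ≤ Cfsg.GU 4 F q → IsMaximalIn G4 (subgroupNormalizer E ⊓ G4) := fun E hE hc' hz' hU =>
    SUFour.Klein.pauli_maximal_of C hp hk (by omega) E hE hc' hz' hU
  have mk : ∀ H, subgroupNormalizer R ⊓ G8 ≤ H → H ≤ G8 → H ≠ G8 → Over q R H u := fun H h1 h2' h3 =>
    ⟨hF, by omega, hbase, hu, X, hR, hc, h1, h2', h3⟩
  have hne : subgroupNormalizer R ⊓ G8 ≠ G8 := by
    intro e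
    obtain ⟨z, hzI⟩ := X.exists_iq
    obtain ⟨w, hw, hwz⟩ := X.anti hzI.1 hzI.2.2
    obtain ⟨c, -, hwI⟩ := X.scale hw (X.not_scal_of_anti hwz.symm)
    obtain ⟨g, hg, e1, e2⟩ := exists_std hF h2 (hR hzI.1) (hR hwI.1) hzI.2.1 hwI.2.1 (hwz.symm.sc_mul c).symm
    have S : Std (cj g R) u := by
      refine ⟨X.conj g, ?_, mem_cj.2 (by rw [← e1]; simpa [mul_assoc] using hzI.1),
        mem_cj.2 (by rw [← e2]; simpa [mul_assoc] using hwI.1)⟩
      rw [← hc]
      exact (Nat.card_congr (R.equivMapOfInjective _ (MulAut.conj g).injective).toEquiv).symm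
    have hU : side (cj g R) ≤ Cfsg.GU 4 F q := fun a ha => by
      have h1 : emb (a, a) ∈ Cfsg.GU 8 F q := by
        have := mul_mem (mul_mem hg (hR (mem_cj.1 (mem_side.1 ha)))) (inv_mem hg)
        rwa [show g * (g⁻¹ * emb (a, a) * g) * g⁻¹ = emb (a, a) by group] at this
      exact ((emb_mem_iff hF).1 h1).1
    refine (hbase _ S.sys S.side_card S.side_center hU).1.ne (le_antisymm inf_le_right fun a ha => ⟨?_, ha⟩)
    refine S.side_norm (b := (1 : GL4)) (mem_cj_norm.2 (e.ge ?_).1)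
    exact conj_mem_G' hg ((emb_mem_G hF).2 ⟨ha.1, one_mem _, by
      rw [(mem_G_iff.1 ha).2, Units.val_one, Matrix.det_one, mul_one]⟩)
  refine ⟨lt_of_le_of_ne inf_le_right hne, fun H hH hHS => ?_⟩
  by_cases hH' : H = G8
  · exact Or.inr hH'
  exact Or.inl (le_antisymm (le_inf ((mk H hH hHS hH').loc.normalizes X) hHS) hH)

end CfsgLib.MaxSub.QuadTwo.SUEight
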