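import Cfsg.Agent.Lib.MaxSub.Extra.Quad.Blocks
import Cfsg.Agent.Lib.MaxSub.SUFour.Klein.Model
import Cfsg.Agent.Lib.HermIso.Frame

/-!
The unitary group in block coordinates: membership, the standard pair, normal subgroups of `SU₄`.
-/

set_option autoImplicit false
set_option linter.unusedSectionVars false
set_option linter.style.haveILetI false
set_option maxHeartbeats 800000

namespace CfsgLib.MaxSub.QuadTwo.SUEight

open Matrix Subgroup Module Cfsg Cfsg.Geo CfsgLib.UnitaryTransvection CfsgLib.PauliFour Blocks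

variable {F : Type*} [Field F] [Fintype F] {q : ℕ} (hF : Fintype.card F = q ^ 2)

local notation "GL4" => GL (Fin 4) F
local notation "GL8" => GL (Fin 8) F
local notation "h4" => Cfsg.hermForm 4 F q
local notation "h8" => Cfsg.hermForm 8 F q

/-- The first four coordinates. -/
def top (v : Fin 8 → F) : Fin 4 → F := fun i => v (e8.symm (Sum.inl i))

/-- The last four coordinates. -/
def bot (v : Fin 8 → F) : Fin 4 → F := fun i => v (e8.symm (Sum.inr i))

/-- The vector with given halves. -/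
def glue (a b : Fin 4 → F) : Fin 8 → F := fun j => Sum.elim a b (e8 j)

theorem top_glue (a b : Fin 4 → F) : top (glue a b) = a := funext fun i => by simp [top, glue]

theorem bot_glue (a b : Fin 4 → F) : bot (glue a b) = b := funext fun i => by simp [bot, glue]

theorem big_mulVec (A B C D : Matrix (Fin 4) (Fin 4) F) (v : Fin 8 → F) :
    big A B C D *ᵥ v = glue (A *ᵥ top v + B *ᵥ bot v) (C *ᵥ top v + D *ᵥ bot v) := by
  rw [big, Matrix.submatrix_mulVec_equiv, Matrix.fromBlocks_mulVec]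
  rfl

theorem form_split (u v : Fin 8 → F) : h8 u v = h4 (top u) (top v) + h4 (bot u) (bot v) := by
  show ∑ j, u j * v j ^ q = (∑ i, top u i * top v i ^ q) + ∑ i, bot u i * bot v i ^ q
  rw [← e8.symm.sum_comp, Fintype.sum_sum_type]
  rfl

include hF

theorem h_zero_right {n : ℕ} (u : Fin n → F) : Cfsg.hermForm n F q u 0 = 0 := by
  have hq : q ≠ 0 := fun h0 => by
    rw [h0] at hF
    exact (Fintype.card_pos (α := F)).ne' (by simpa using hF)
  exact Finset.sum_eq_zero fun i _ => by rw [Pi.zero_apply, zero_pow hq, mul_zero]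

theorem emb_mem_iff {a b : GL4} :
    emb (a, b) ∈ Cfsg.GU 8 F q ↔ a ∈ Cfsg.GU 4 F q ∧ b ∈ Cfsg.GU 4 F q := by
  have key : ∀ u v : Fin 8 → F, h8 ((emb (a, b)).1 *ᵥ u) ((emb (a, b)).1 *ᵥ v) =
      h4 (a.1 *ᵥ top u) (a.1 *ᵥ top v) + h4 (b.1 *ᵥ bot u) (b.1 *ᵥ bot v) := fun u v => by
    rw [emb_val, big_mulVec, big_mulVec, form_split, top_glue, top_glue, bot_glue, bot_glue]
    simp
  constructor
  · intro h
    refine ⟨fun u v => ?_, fun u v => ?_⟩
    · have e : h8 ((emb (a, b)).1 *ᵥ glue u 0) ((emb (a, b)).1 *ᵥ glue v 0) = h8 (glue u 0) (glue v 0) := h _ _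
      rw [key, form_split] at e
      simp only [top_glue, bot_glue, Matrix.mulVec_zero, h_zero_right hF, add_zero] at e
      exact e
    · have e : h8 ((emb (a, b)).1 *ᵥ glue 0 u) ((emb (a, b)).1 *ᵥ glue 0 v) = h8 (glue 0 u) (glue 0 v) := h _ _
      rw [key, form_split] at e
      simp only [top_glue, bot_glue, Matrix.mulVec_zero, h_zero_right hF, zero_add] at e
      exact e
  · rintro ⟨ha, hb⟩ u v
    show h8 ((emb (a, b)).1 *ᵥ u) ((emb (a, b)).1 *ᵥ v) = h8 u v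
    rw [key, form_split]
    exact congrArg₂ (· + ·) (ha _ _) (hb _ _)

theorem swp_mem : (swp : GL8) ∈ Cfsg.GU 8 F q := fun u v => by
  show h8 (swp.1 *ᵥ u) (swp.1 *ᵥ v) = h8 u v
  rw [swp_val, big_mulVec, big_mulVec, form_split, form_split, top_glue, top_glue, bot_glue, bot_glue]
  simp [add_comm]

omit [Fintype F] hF in
theorem swp_det : (swp : GL8).1.det = 1 := by
  have hfac : (swp : GL8).1 = big (1 : Matrix (Fin 4) (Fin 4) F) 1 0 1 * big 1 0 (-1) 1 * big 1 1 0 1 *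
      big (-1 : Matrix (Fin 4) (Fin 4) F) 0 0 1 := by
    rw [swp_val, big_mul, big_mul, big_mul]
    simp
  rw [hfac, Matrix.det_mul, Matrix.det_mul, Matrix.det_mul, big_det, big, big,
    Matrix.det_submatrix_equiv_self, Matrix.det_submatrix_equiv_self, Matrix.det_fromBlocks_zero₂₁,
    Matrix.det_fromBlocks_zero₁₂]
  simp [Matrix.det_neg]
  norm_num

theorem neg_one_mem {n : ℕ} : (-1 : GL (Fin n) F) ∈ Cfsg.GU n F q := fun u v => by
  obtain ⟨σ, B, H, hB⟩ := HermIso.exists_herm hF n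
  show Cfsg.hermForm n F q ((-1 : GL (Fin n) F).1 *ᵥ u) ((-1 : GL (Fin n) F).1 *ᵥ v) = Cfsg.hermForm n F q u v
  rw [← hB, ← hB]
  simp [Matrix.neg_mulVec]

theorem Z0_mem : (Z0 : GL8) ∈ Cfsg.GU 8 F q :=
  (emb_mem_iff hF).2 ⟨one_mem _, neg_one_mem hF⟩

omit hF in
theorem mem_G_iff {n : ℕ} {g : GL (Fin n) F} :
    g ∈ Cfsg.GU n F q ⊓ specialLinear (Fin n) F ↔ g ∈ Cfsg.GU n F q ∧ g.1.det = 1 :=
  ⟨fun h => ⟨h.1, congrArg Units.val (MonoidHom.mem_ker.1 h.2)⟩, fun h => ⟨h.1, MonoidHom.mem_ker.2 (Units.ext h.2)⟩⟩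

omit [Fintype F] hF in
theorem emb_det (a b : GL4) : (emb (a, b)).1.det = a.1.det * b.1.det := by rw [emb_val, big_det]

theorem emb_mem_G {a b : GL4} : emb (a, b) ∈ Cfsg.GU 8 F q ⊓ specialLinear (Fin 8) F ↔
    a ∈ Cfsg.GU 4 F q ∧ b ∈ Cfsg.GU 4 F q ∧ a.1.det * b.1.det = 1 := by
  rw [mem_G_iff, emb_mem_iff hF, emb_det, and_assoc]

theorem swp_mem_G : (swp : GL8) ∈ Cfsg.GU 8 F q ⊓ specialLinear (Fin 8) F :=
  mem_G_iff.2 ⟨swp_mem hF, swp_det⟩

/-- The fixed space of an isometric involution is non-degenerate. -/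
theorem fixed_nds {n : ℕ} {σ : F →+* F} {B : (Fin n → F) →ₛₗ[σ] (Fin n → F) →ₗ[F] F}
    (hB : ∀ x y, B x y = Cfsg.hermForm n F q y x) (h2 : (2 : F) ≠ 0) (H : HermIso.Herm q B) {e : GL (Fin n) F}
    (he : e ∈ Cfsg.GU n F q) (hee : e * e = 1) :
    CfsgLib.HermIso.NDS B (LinearMap.eqLocus (Matrix.toLin' e.1) LinearMap.id) := fun x hx hp => by
  refine H.nd x fun y => ?_
  have hx' : e.1 *ᵥ x = x := hx
  have hey : (2 : F)⁻¹ • (y + e.1 *ᵥ y) ∈ LinearMap.eqLocus (Matrix.toLin' e.1) LinearMap.id := by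
    show e.1 *ᵥ _ = _
    rw [Matrix.mulVec_smul, Matrix.mulVec_add, Matrix.mulVec_mulVec, ← Units.val_mul, hee, Units.val_one,
      Matrix.one_mulVec, add_comm]
    rfl
  have h1 := hp _ hey
  have h3 : B x (e.1 *ᵥ y) = B x y := by
    have e4 := he y x
    conv_lhs => rw [← hx']
    rw [hB, hB]
    exact e4
  rw [map_smul, map_add, h3, smul_eq_mul, ← two_mul, ← mul_assoc, inv_mul_cancel₀ h2, one_mul] at h1
  exact h1

/-- An involutory isometry other than `-1` fixes a vector of norm one. -/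
theorem exists_unit_fixed {n : ℕ} (h2 : (2 : F) ≠ 0) {e : GL (Fin n) F} (he : e ∈ Cfsg.GU n F q)
    (hee : e * e = 1) (hne : e ≠ -1) : ∃ v, e.1 *ᵥ v = v ∧ Cfsg.hermForm n F q v v = 1 := by
  obtain ⟨σ, B, H, hB⟩ := HermIso.exists_herm hF n
  set U := LinearMap.eqLocus (Matrix.toLin' e.1) LinearMap.id with hU
  have hU0 : U ≠ ⊥ := fun h0 => hne (Units.ext (Matrix.ext_of_mulVec_single fun j => by
    have hx : Pi.single j (1 : F) + e.1 *ᵥ Pi.single j 1 ∈ U := by
      show e.1 *ᵥ _ = Pi.single j 1 + e.1 *ᵥ Pi.single j 1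
      rw [Matrix.mulVec_add, Matrix.mulVec_mulVec, ← Units.val_mul, hee, Units.val_one, Matrix.one_mulVec, add_comm]
    rw [h0, Submodule.mem_bot, add_eq_zero_iff_neg_eq] at hx
    rw [← hx, Units.val_neg, Units.val_one, Matrix.neg_mulVec, Matrix.one_mulVec]))
  obtain ⟨x, hx, hxx⟩ := HermIso.exists_aniso H (fixed_nds hF hB h2 H he hee) hU0
  obtain ⟨t, ht0, ht⟩ := HermIso.exists_norm H hxx (H.symm x x).symm
  refine ⟨t⁻¹ • x, U.smul_mem _ hx, ?_⟩
  rw [← hB]
  simp only [LinearMap.map_smulₛₗ, LinearMap.smul_apply, map_smul, smul_eq_mul, map_inv₀]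
  rw [← ht]
  have : σ t ≠ 0 := (map_ne_zero σ).mpr ht0
  field_simp

/-- A pair of anticommuting isometric involutions is conjugate to the standard pair. -/
theorem exists_std (h2 : (2 : F) ≠ 0) {z w : GL8} (hz : z ∈ Cfsg.GU 8 F q) (hw : w ∈ Cfsg.GU 8 F q)
    (hzz : z * z = 1) (hww : w * w = 1) (hwz : Anti w z) :
    ∃ g ∈ Cfsg.GU 8 F q, g * z * g⁻¹ = Z0 ∧ g * w * g⁻¹ = swp := by
  classical
  obtain ⟨σ, B, H, hB⟩ := HermIso.exists_herm hF 8
  set W : Submodule F (Fin 8 → F) := LinearMap.eqLocus (Matrix.toLin' z.1) LinearMap.id with hWdef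
  let W' : Submodule F (Fin 8 → F) := LinearMap.eqLocus (Matrix.toLin' z.1) (-LinearMap.id)
  have mW : ∀ {x}, x ∈ W ↔ z.1 *ᵥ x = x := fun {x} => Iff.rfl
  have mW' : ∀ {x}, x ∈ W' ↔ z.1 *ᵥ x = -x := fun {x} => Iff.rfl
  have hzz' : z.1 * z.1 = 1 := congrArg Units.val hzz
  have hww' : w.1 * w.1 = 1 := congrArg Units.val hww
  have hzw : z.1 * w.1 = -(w.1 * z.1) := congrArg Units.val hwz.symm
  have hdis : W ⊓ W' = ⊥ := (Submodule.eq_bot_iff _).2 fun x ⟨h, h'⟩ => by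
    have e : x = -x := (mW.1 h).symm.trans (mW'.1 h')
    exact (smul_eq_zero.1 (show (2 : F) • x = 0 by rw [two_smul]; exact add_eq_zero_iff_eq_neg.2 e)).resolve_left h2
  have hsup : W ⊔ W' = ⊤ := eq_top_iff.2 fun x _ => by
    rw [show x = (2 : F)⁻¹ • (x + z.1 *ᵥ x) + (2 : F)⁻¹ • (x - z.1 *ᵥ x) by
      rw [← smul_add, add_add_sub_cancel, ← two_smul F, inv_smul_smul₀ h2]]
    refine Submodule.add_mem_sup (W.smul_mem _ (mW.2 ?_)) (W'.smul_mem _ (mW'.2 ?_))
    · rw [Matrix.mulVec_add, Matrix.mulVec_mulVec, hzz', Matrix.one_mulVec, add_comm]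
    · rw [Matrix.mulVec_sub, Matrix.mulVec_mulVec, hzz', Matrix.one_mulVec, neg_sub]
  have hinjw : Function.Injective (Matrix.toLin' w.1) := fun a b e => by
    have := congrArg (fun v => w.1 *ᵥ v) e
    simpa [Matrix.toLin'_apply, Matrix.mulVec_mulVec, hww'] using this
  have hmap : W.map (Matrix.toLin' w.1) = W' := by
    ext x
    refine ⟨?_, fun hx => ⟨w.1 *ᵥ x, mW.2 ?_, ?_⟩⟩
    · rintro ⟨y, hy, rfl⟩
      refine mW'.2 ?_
      show z.1 *ᵥ (w.1 *ᵥ y) = -(w.1 *ᵥ y)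
      rw [Matrix.mulVec_mulVec, hzw, Matrix.neg_mulVec, ← Matrix.mulVec_mulVec, mW.1 hy]
    · rw [Matrix.mulVec_mulVec, hzw, Matrix.neg_mulVec, ← Matrix.mulVec_mulVec, mW'.1 hx, Matrix.mulVec_neg, neg_neg]
    · show w.1 *ᵥ (w.1 *ᵥ x) = x
      rw [Matrix.mulVec_mulVec, hww', Matrix.one_mulVec]
  have hrk : finrank F W = 4 := by
    have h1 := Submodule.finrank_sup_add_finrank_inf_eq W W'
    rw [hsup, hdis, finrank_top, finrank_bot, add_zero] at h1
    have h3 := (Submodule.equivMapOfInjective _ hinjw W).finrank_eq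
    rw [hmap] at h3
    have h4' : finrank F (Fin 8 → F) = 8 := by simp
    omega
  obtain ⟨f, hfW, hf⟩ := HermIso.exists_frame H 4 W hrk (fixed_nds hF hB h2 H hz hzz)
  let col : Fin 8 → Fin 8 → F := fun j => Sum.elim f (fun i => w.1 *ᵥ f i) (e8 j)
  let T : Matrix (Fin 8) (Fin 8) F := Matrix.of fun r j => col j r
  have hcol : ∀ x : Fin 8 → F, T *ᵥ x = ∑ j, x j • col j := fun x => by
    funext r; simp [T, Matrix.mulVec, dotProduct, mul_comm]
  have horth : ∀ a ∈ W, ∀ b ∈ W', B a b = 0 := fun a ha b hb => by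
    have e : B (z.1 *ᵥ a) (z.1 *ᵥ b) = B a b := by
      rw [hB, hB]; exact hz b a
    rw [mW.1 ha, mW'.1 hb, map_neg] at e
    exact (mul_eq_zero.1 (show (2 : F) * B a b = 0 by linear_combination -e)).resolve_left h2
  have hBcol : ∀ i j, B (col i) (col j) = if i = j then 1 else 0 := fun i j => by
    rcases hi : e8 i with a | a <;> rcases hj : e8 j with b | b
    all_goals simp only [col, hi, hj, Sum.elim_inl, Sum.elim_inr]
    · rw [hf]
      exact if_congr ⟨fun e => e8.injective (by rw [hi, hj, e]), fun e => by subst e; simpa [hi] using hj⟩ rfl rfl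
    · rw [horth _ (hfW a) _ (hmap ▸ Submodule.mem_map_of_mem (hfW b)), if_neg]
      intro e; rw [e, hj] at hi; simp at hi
    · rw [if_neg (by intro e; rw [e, hj] at hi; simp at hi)]
      exact H.refl _ _ (horth _ (hfW b) _ (hmap ▸ Submodule.mem_map_of_mem (hfW a)))
    · rw [show B (w.1 *ᵥ f a) (w.1 *ᵥ f b) = B (f a) (f b) by rw [hB, hB]; exact hw _ _, hf]
      exact if_congr ⟨fun e => e8.injective (by rw [hi, hj, e]), fun e => by subst e; simpa [hi] using hj⟩ rfl rfl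
  have hiso : ∀ x y, h8 (T *ᵥ x) (T *ᵥ y) = h8 x y := fun x y => by
    refine (hB _ _).symm.trans ?_
    rw [hcol, hcol]
    simp only [map_sum, LinearMap.map_smulₛₗ, LinearMap.sum_apply, LinearMap.smul_apply, map_smul, smul_eq_mul,
      hBcol, mul_ite, mul_one, mul_zero, Finset.sum_ite_eq', Finset.mem_univ, if_true]
    show _ = ∑ j, x j * y j ^ q
    refine Finset.sum_congr rfl fun j _ => ?_
    rw [H.frob]
  have hinj : Function.Injective T.mulVec := fun x y e => by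
    refine sub_eq_zero.1 (H.nd _ fun v => ?_)
    rw [hB]
    have h1 := hiso v (x - y)
    rw [Matrix.mulVec_sub, show T *ᵥ x = T *ᵥ y from e, sub_self, h_zero_right hF] at h1
    exact h1.symm
  obtain ⟨G, hG⟩ : IsUnit T := Matrix.mulVec_injective_iff_isUnit.1 hinj
  have hGU : G ∈ Cfsg.GU 8 F q := fun u v => by
    show h8 (G.1 *ᵥ u) (G.1 *ᵥ v) = h8 u v
    rw [hG]; exact hiso u v
  have hTg : ∀ a b, T *ᵥ glue a b = ∑ i, a i • f i + ∑ i, b i • (w.1 *ᵥ f i) := fun a b => by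
    rw [hcol, ← e8.symm.sum_comp, Fintype.sum_sum_type]
    simp [glue, col]
  have hsplit : ∀ x : Fin 8 → F, glue (top x) (bot x) = x := fun x => funext fun j => by
    obtain ⟨s, rfl⟩ := e8.symm.surjective j
    rcases s with i | i <;> simp [glue, top, bot]
  refine ⟨G⁻¹, inv_mem hGU, ?_, ?_⟩
  · rw [inv_inv, mul_assoc, inv_mul_eq_iff_eq_mul]
    refine Units.ext (Matrix.toLin'.injective (LinearMap.ext fun x => ?_))
    show (z * G).1 *ᵥ x = (G * Z0).1 *ᵥ x
    rw [Units.val_mul, Units.val_mul, ← Matrix.mulVec_mulVec, ← Matrix.mulVec_mulVec, hG, Z0_val, big_mulVec]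
    simp only [Matrix.one_mulVec, Matrix.zero_mulVec, add_zero, zero_add, Matrix.neg_mulVec]
    conv_lhs => rw [← hsplit x]
    rw [hTg, hTg, Matrix.mulVec_add, Matrix.mulVec_sum, Matrix.mulVec_sum]
    congr 1
    · exact Finset.sum_congr rfl fun i _ => by rw [Matrix.mulVec_smul, mW.1 (hfW i)]
    · exact Finset.sum_congr rfl fun i _ => by
        rw [Matrix.mulVec_smul, mW'.1 (hmap ▸ Submodule.mem_map_of_mem (hfW i) : w.1 *ᵥ f i ∈ W'), Pi.neg_apply,
          neg_smul, smul_neg]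
  · rw [inv_inv, mul_assoc, inv_mul_eq_iff_eq_mul]
    refine Units.ext (Matrix.toLin'.injective (LinearMap.ext fun x => ?_))
    show (w * G).1 *ᵥ x = (G * swp).1 *ᵥ x
    rw [Units.val_mul, Units.val_mul, ← Matrix.mulVec_mulVec, ← Matrix.mulVec_mulVec, hG, swp_val, big_mulVec]
    simp only [Matrix.one_mulVec, Matrix.zero_mulVec, add_zero, zero_add]
    conv_lhs => rw [← hsplit x]
    rw [hTg, hTg, Matrix.mulVec_add, Matrix.mulVec_sum, Matrix.mulVec_sum, add_comm]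
    congr 1
    · exact Finset.sum_congr rfl fun i _ => by
        rw [Matrix.mulVec_smul, Matrix.mulVec_mulVec, hww', Matrix.one_mulVec]
    · exact Finset.sum_congr rfl fun i _ => by rw [Matrix.mulVec_smul]

/-- A normal subgroup of `SU₄` with a non-central element is everything. -/
theorem normal_top {N : Subgroup ↥(Cfsg.GU 4 F q ⊓ specialLinear (Fin 4) F)} (hN : N.Normal)
    (hne : ∃ e ∈ N, ∃ y, e * y ≠ y * e) : N = ⊤ := by
  set φ := SUFour.Klein.suHom F q
  have hφ : Function.Bijective φ := SUFour.Klein.suHom_bijective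
  suffices h : N.comap φ = ⊤ by
    refine eq_top_iff.2 fun x _ => ?_
    obtain ⟨x', rfl⟩ := hφ.2 x
    exact Subgroup.mem_comap.1 (h ▸ Subgroup.mem_top x')
  haveI : (N.comap φ).Normal := hN.comap φ
  obtain ⟨e, he, y, hy⟩ := hne
  obtain ⟨e', rfl⟩ := hφ.2 e
  obtain ⟨y', rfl⟩ := hφ.2 y
  haveI hs : IsSimpleGroup (Cfsg.PSU 4 F q) := UnitarySimple.simple (n := 4) hF (by norm_num) (by omega)
  have hperf : commutator (Cfsg.SU 4 F q) = ⊤ := UnitarySimple.perfect (n := 4) hF (by norm_num) (by omega)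
  set Z := Subgroup.center (Cfsg.SU 4 F q) with hZ
  have hsup : N.comap φ ⊔ Z = ⊤ := by
    have hnormal : ((N.comap φ).map (QuotientGroup.mk' Z)).Normal :=
      Normal.map inferInstance _ (QuotientGroup.mk'_surjective Z)
    rcases hs.eq_bot_or_eq_top_of_normal _ hnormal with h | h
    · exfalso
      have hmem : QuotientGroup.mk' Z e' ∈ (N.comap φ).map (QuotientGroup.mk' Z) := Subgroup.mem_map_of_mem _ he
      erw [h, Subgroup.mem_bot] at hmem
      have := (QuotientGroup.eq_one_iff e').1 hmem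
      exact hy (by rw [← map_mul, ← map_mul, Subgroup.mem_center_iff.1 this y'])
    · refine eq_top_iff.2 fun x _ => ?_
      have hmem : QuotientGroup.mk' Z x ∈ (N.comap φ).map (QuotientGroup.mk' Z) := by erw [h]; exact Subgroup.mem_top _
      obtain ⟨n, hn, e⟩ := Subgroup.mem_map.1 hmem
      rw [show x = n * (n⁻¹ * x) by group]
      exact mul_mem (Subgroup.mem_sup_left hn) (Subgroup.mem_sup_right (QuotientGroup.eq.1 e))
  refine eq_top_iff.2 (hperf ▸ ?_)
  rw [_root_.commutator_def, Subgroup.commutator_le]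
  intro a _ b _
  obtain ⟨n, hn, c, hc, rfl⟩ := Subgroup.mem_sup_of_normal_left.1 (hsup ▸ Subgroup.mem_top a : a ∈ N.comap φ ⊔ Z)
  obtain ⟨m, hm, d, hd, rfl⟩ := Subgroup.mem_sup_of_normal_left.1 (hsup ▸ Subgroup.mem_top b : b ∈ N.comap φ ⊔ Z)
  have hc' : ∀ w, w * c = c * w := Subgroup.mem_center_iff.1 hc
  have hd' : ∀ w, w * d = d * w := Subgroup.mem_center_iff.1 hd
  have e : n * c * (m * d) * (n * c)⁻¹ * (m * d)⁻¹ = n * m * n⁻¹ * m⁻¹ := by
    calc n * c * (m * d) * (n * c)⁻¹ * (m * d)⁻¹ = n * (c * (m * d)) * c⁻¹ * n⁻¹ * d⁻¹ * m⁻¹ := by group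
      _ = n * (m * d) * n⁻¹ * d⁻¹ * m⁻¹ := by rw [← hc' (m * d)]; group
      _ = n * m * (d * n⁻¹) * d⁻¹ * m⁻¹ := by group
      _ = _ := by rw [← hd' n⁻¹]; group
  rw [commutatorElement_def, e]
  exact mul_mem (mul_mem (mul_mem hn hm) (inv_mem hn)) (inv_mem hm)

end CfsgLib.MaxSub.QuadTwo.SUEight
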